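import Cfsg.Agent.Lib.Fischer.C23.R0
import Cfsg.Agent.Lib.Fischer.C23.R1
import Cfsg.Agent.Lib.Fischer.C23.R2

set_option autoImplicit false
set_option maxRecDepth 100000

namespace Cfsg.Agent.Fi.C23

open Cfsg.Agent.PC

theorem rows : ∀ i < 31671, row i = 0 := by
  have h := zero_lt_zero row
  have h := zero_lt_add (a := nat_lit 0) (n := nat_lit 3000) (b := nat_lit 3000) h r0 rfl
  have h := zero_lt_add (a := nat_lit 3000) (n := nat_lit 3000) (b := nat_lit 6000) h r3000 rfl
  have h := zero_lt_add (a := nat_lit 6000) (n := nat_lit 3000) (b := nat_lit 9000) h r6000 rfl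
  have h := zero_lt_add (a := nat_lit 9000) (n := nat_lit 3000) (b := nat_lit 12000) h r9000 rfl
  have h := zero_lt_add (a := nat_lit 12000) (n := nat_lit 3000) (b := nat_lit 15000) h r12000 rfl
  have h := zero_lt_add (a := nat_lit 15000) (n := nat_lit 3000) (b := nat_lit 18000) h r15000 rfl
  have h := zero_lt_add (a := nat_lit 18000) (n := nat_lit 3000) (b := nat_lit 21000) h r18000 rfl
  have h := zero_lt_add (a := nat_lit 21000) (n := nat_lit 3000) (b := nat_lit 24000) h r21000 rfl
  have h := zero_lt_add (a := nat_lit 24000) (n := nat_lit 3000) (b := nat_lit 27000) h r24000 rfl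
  have h := zero_lt_add (a := nat_lit 27000) (n := nat_lit 3000) (b := nat_lit 30000) h r27000 rfl
  have h := zero_lt_add (a := nat_lit 30000) (n := nat_lit 1671) (b := nat_lit 31671) h r30000 rfl
  exact h
theorem auxs : ∀ i < 959, aux i = 0 := by
  have h := zero_lt_zero aux
  have h := zero_lt_add (a := nat_lit 0) (n := nat_lit 959) (b := nat_lit 959) h a0 rfl
  exact h
theorem closes.{u} : ClosesT.{u} (fun j => j) rels 11 10 31671 T :=
  hc_closes (N1 := nat_lit 31670) rfl T_eq (by decide +kernel) rows auxs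
theorem T_inv : ∀ c < 31671, ∀ j < 11, T j c < 31671 ∧ T j (T j c) = c :=
  hc_inv (inv := fun j => j) (N1 := nat_lit 31670) rfl T_eq rows

end Cfsg.Agent.Fi.C23
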